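import Groth.Agent.Lib.Chevalley25.Gauss
import Groth.Agent.Lib.Chevalley25.Model

/-!
# Restrictions of divisorial valuations to subfields
-/

set_option autoImplicit false
set_option linter.style.haveILetI false

universe u

open MvPolynomial

noncomputable section

namespace Groth.Agent.DivModel15

open Chevalley25

variable {k : Type u} [Field k]

theorem trdeg_eq_of_isFractionRing {K : Type u} [Field K] [Algebra k K] (A : Type u) [CommRing A] [IsDomain A]
    [Algebra k A] [Algebra A K] [IsScalarTower k A K] [IsFractionRing A K] :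
    Algebra.trdeg k A = Algebra.trdeg k K := by
  haveI : FaithfulSMul A K := (faithfulSMul_iff_algebraMap_injective A K).2 (IsFractionRing.injective A K)
  haveI : FaithfulSMul k A := (faithfulSMul_iff_algebraMap_injective k A).2 (algebraMap k A).injective
  haveI : Algebra.IsAlgebraic A K := IsLocalization.isAlgebraic K (nonZeroDivisors A)
  rw [← trdeg_add_eq k A (A := K), trdeg_eq_zero (R := A) (A := K), add_zero]

/-- Residually independent elements from a prime of height one. -/
theorem exists_resIndep_of_height_one {K : Type u} [Field K] [Algebra k K] {A : Type u} [CommRing A] [IsDomain A]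
    [Algebra k A] [Algebra.FiniteType k A] [Algebra A K] [IsScalarTower k A K] [IsFractionRing A K]
    (P : Ideal A) [P.IsPrime] (hP : P.height = 1) (W : ValuationSubring K)
    (hA : ∀ a : A, algebraMap A K a ∈ W) (hP' : ∀ a : A, a ∉ P → W.valuation (algebraMap A K a) = 1)
    {d : ℕ} (hd : Algebra.trdeg k K = d) :
    ∃ z : Fin (d - 1) → K, ResIndep (k := k) W z := by
  classical
  have hdA : VarDim.tdeg k A = d := by
    have h1 : Algebra.trdeg k A = Algebra.trdeg k K := trdeg_eq_of_isFractionRing A
    rw [VarDim.trdeg_eq_tdeg, hd] at h1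
    exact_mod_cast h1
  have h2 := coheight_add_one (k := k) P hP
  obtain ⟨s, hs⟩ := exists_isTranscendenceBasis k (A ⧸ P)
  have hcard : Cardinal.mk s = (d - 1 : ℕ) := by
    rw [hs.cardinalMk_eq_trdeg, VarDim.trdeg_eq_tdeg]
    congr 1
    omega
  obtain ⟨e⟩ : Nonempty (Fin (d - 1) ≃ s) := by
    haveI : Finite s := Cardinal.lt_aleph0_iff_finite.1 (hcard ▸ Cardinal.natCast_lt_aleph0)
    haveI := Fintype.ofFinite s
    refine ⟨(Fintype.equivFinOfCardEq ?_).symm⟩
    rw [Cardinal.mk_fintype] at hcard
    exact_mod_cast hcard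
  choose z hz using fun i => Ideal.Quotient.mk_surjective ((e i : s) : A ⧸ P)
  refine ⟨fun i => algebraMap A K (z i), fun i => hA _, fun p hp => ?_⟩
  have hev : aeval (fun i => algebraMap A K (z i)) p = algebraMap A K (aeval z p) :=
    (aeval_algebraMap_apply (B := K) z p)
  rw [hev]
  refine hP' _ fun hmem => hp ?_
  have hind : AlgebraicIndependent k fun i => (Ideal.Quotient.mkₐ k P) (z i) := by
    have := hs.1.comp e e.injective
    convert this using 1
    ext i
    exact hz i
  refine hind.eq_zero_of_aeval_eq_zero p ?_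
  rw [← MvPolynomial.comp_aeval_apply]
  exact Ideal.Quotient.eq_zero_iff_mem.2 hmem

/-- The restriction of a divisorial valuation to a finitely generated subfield is the local ring of a model. -/
theorem exists_model_comap {L K : Type u} [Field L] [Field K] [Algebra k L] [Algebra k K] (j : L →ₐ[k] K)
    {A : Type u} [CommRing A] [IsDomain A] [Algebra k A] [Algebra.FiniteType k A] [Algebra A K]
    [IsScalarTower k A K] [IsFractionRing A K]
    (P : Ideal A) [P.IsPrime] (hP : P.height = 1) (W : ValuationSubring K)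
    (hA : ∀ a : A, algebraMap A K a ∈ W) (hP' : ∀ a : A, a ∉ P → W.valuation (algebraMap A K a) = 1)
    (y : Set L) (hy : y.Finite) (hgen : IntermediateField.adjoin k y = ⊤) :
    ∃ B : Subalgebra k L, Algebra.FiniteType k B ∧ (∀ x ∈ B, x ∈ W.comap j.toRingHom) ∧
      ∀ x ∈ W.comap j.toRingHom, ∃ a b : L, a ∈ B ∧ b ∈ B ∧
        (W.comap j.toRingHom).valuation b = 1 ∧ x * b = a := by
  classical
  set V := W.comap j.toRingHom with hV
  have hk : ∀ c, algebraMap k K c ∈ W := fun c => by
    rw [IsScalarTower.algebraMap_apply k A K]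
    exact hA _
  have hkV : ∀ c, algebraMap k L c ∈ V := fun c => by
    show j (algebraMap k L c) ∈ W
    rw [j.commutes]
    exact hk c
  by_cases htop : V = ⊤
  · let B := Algebra.adjoin k y
    refine ⟨B, Algebra.FiniteType.adjoin_of_finite hy, fun x _ => by rw [htop]; trivial, fun x _ => ?_⟩
    obtain ⟨a, ha, b, hb, e⟩ := IntermediateField.mem_adjoin_iff_div.1 (hgen.symm ▸ IntermediateField.mem_top (x := x))
    rcases eq_or_ne b 0 with hb0 | hb0
    · refine ⟨0, 1, B.zero_mem, B.one_mem, map_one _, ?_⟩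
      rw [e, hb0, div_zero, zero_mul]
    · have hbV : b ∈ V ∧ b⁻¹ ∈ V := by rw [htop]; exact ⟨trivial, trivial⟩
      refine ⟨a, b, ha, hb, (V.valuation_eq_one_iff ⟨b, hbV.1⟩).1 ?_, ?_⟩
      · exact IsUnit.of_mul_eq_one ⟨b⁻¹, hbV.2⟩ (Subtype.ext (mul_inv_cancel₀ hb0))
      · rw [e, div_mul_cancel₀ a hb0]
  · have hlt : Algebra.trdeg k A < Cardinal.aleph0 := trdeg_lt_aleph0_of_finiteType
    have hAK : Algebra.trdeg k A = Algebra.trdeg k K := trdeg_eq_of_isFractionRing A
    obtain ⟨d, hd⟩ := Cardinal.lt_aleph0.1 hlt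
    letI : Algebra L K := j.toRingHom.toAlgebra
    haveI : IsScalarTower k L K := IsScalarTower.of_algebraMap_eq fun c => (j.commutes c).symm
    have hsum : Algebra.trdeg k L + Algebra.trdeg L K = (d : Cardinal) := by
      rw [trdeg_add_eq, ← hAK, hd]
    obtain ⟨n, hn⟩ := Cardinal.lt_aleph0.1 ((le_self_add.trans hsum.le).trans_lt Cardinal.natCast_lt_aleph0)
    obtain ⟨r, hr⟩ := Cardinal.lt_aleph0.1 ((le_add_self.trans hsum.le).trans_lt Cardinal.natCast_lt_aleph0)
    have hnr : n + r = d := by
      rw [hn, hr] at hsum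
      exact_mod_cast hsum
    obtain ⟨u, hu⟩ : ∃ u : Fin (n - 1) → L, ResIndep (k := k) V u := by
      rcases Nat.eq_zero_or_pos n with rfl | hpos
      · refine ⟨fun i => i.elim0, fun i => i.elim0, fun p hp => ?_⟩
        haveI : IsEmpty (Fin (0 - 1)) := inferInstanceAs (IsEmpty (Fin 0))
        obtain ⟨c, rfl⟩ := C_surjective (R := k) (Fin (0 - 1)) p
        have hc : c ≠ 0 := fun h => hp (by rw [h, map_zero])
        rw [aeval_C]
        exact (V.valuation_eq_one_iff ⟨_, hkV c⟩).1 (IsUnit.of_mul_eq_one ⟨_, hkV c⁻¹⟩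
          (Subtype.ext (show algebraMap k L c * algebraMap k L c⁻¹ = 1 by rw [← map_mul, mul_inv_cancel₀ hc, map_one])))
      · obtain ⟨z, hz⟩ := exists_resIndep_of_height_one P hP W hA hP' (hAK.symm.trans hd)
        exact exists_resIndep_comap (L := L) W hk z hz (n := r) (m := n - 1) hr.le
          (by rw [Fintype.card_fin]; omega)
    obtain ⟨B, Q, hft, -, hBV, hQp, hQ, hfrac, -⟩ := exists_model hn V hkV y hy hgen htop u hu
    refine ⟨B, hft, hBV, fun x hx => ?_⟩
    obtain ⟨a, b, hb, e⟩ := hfrac x hx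
    refine ⟨a, b, a.2, b.2, ?_, e⟩
    rcases lt_or_eq_of_le ((V.valuation_le_one_iff (b : L)).2 (hBV _ b.2)) with h | h
    · exact absurd ((hQ b).2 h) hb
    · exact h

end Groth.Agent.DivModel15
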