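import Groth.Agent.Lib.DivModel15.Alg
import Groth.Agent.Lib.Curve17.Basic
import Groth.Agent.Lib.CurveNF.Compact
import Groth.Agent.Lib.NormBlow32.Apply
import Groth.Prelude.Def_Pi1
import Mathlib.AlgebraicGeometry.Birational.Birational
import Mathlib.AlgebraicGeometry.ValuativeCriterion

/-!
# Birational models on which a rational map is defined at a divisor
-/

set_option autoImplicit false
set_option linter.style.haveILetI false
set_option maxHeartbeats 3000000
set_option synthInstance.maxHeartbeats 400000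
set_option backward.isDefEq.respectTransparency false
set_option backward.isDefEq.respectTransparency.types false
set_option maxSynthPendingDepth 3

universe u

open CategoryTheory CategoryTheory.Limits AlgebraicGeometry

noncomputable section

namespace Groth.Agent.DivModel15

variable {k : Type u} [Field k]

/-- The structure of the local rings of a scheme over a field. -/
def baseHom {X : Scheme.{u}} (p : X ⟶ Spec (CommRingCat.of k)) (x : X) :
    CommRingCat.of k ⟶ X.presheaf.stalk x :=
  Spec.preimage (X.fromSpecStalk x ≫ p)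

theorem map_baseHom {X : Scheme.{u}} (p : X ⟶ Spec (CommRingCat.of k)) (x : X) :
    Spec.map (baseHom p x) = X.fromSpecStalk x ≫ p := Spec.map_preimage _

theorem baseHom_specializes {X : Scheme.{u}} (p : X ⟶ Spec (CommRingCat.of k)) {x y : X} (h : x ⤳ y) :
    baseHom p y ≫ X.presheaf.stalkSpecializes h = baseHom p x := by
  apply Spec.map_injective
  rw [Spec.map_comp, map_baseHom, map_baseHom, Scheme.SpecMap_stalkSpecializes_fromSpecStalk_assoc]

theorem fromSpecStalkOfMem_specializes {X Y : Scheme.{u}} (g : X.PartialMap Y) {x y : X} (h : x ⤳ y)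
    (hx : x ∈ g.domain) (hy : y ∈ g.domain) :
    g.fromSpecStalkOfMem hx = Spec.map (X.presheaf.stalkSpecializes h) ≫ g.fromSpecStalkOfMem hy := by
  show g.domain.fromSpecStalkOfMem x hx ≫ g.hom = _ ≫ g.domain.fromSpecStalkOfMem y hy ≫ g.hom
  rw [← Category.assoc]
  congr 1
  rw [← cancel_mono g.domain.ι, Category.assoc, Scheme.Opens.fromSpecStalkOfMem_ι,
    Scheme.Opens.fromSpecStalkOfMem_ι, Scheme.SpecMap_stalkSpecializes_fromSpecStalk]

theorem map_genericPoint_of_isDominant {X Y : Scheme.{u}} [IrreducibleSpace X] [IrreducibleSpace Y]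
    (f : X ⟶ Y) [IsDominant f] : f (genericPoint X) = genericPoint Y := by
  have h := (genericPoint_spec X).image f.continuous
  rw [Set.image_univ, f.denseRange.closure_range] at h
  exact h.eq (genericPoint_spec Y)

theorem mem_range_stalkClosedPointTo {Z : Scheme.{u}} {B S : CommRingCat.{u}} [IsLocalRing S]
    (θ : B ⟶ S) (jZ : Spec B ⟶ Z) [IsOpenImmersion jZ] (b : B) :
    θ b ∈ Set.range (Scheme.stalkClosedPointTo (Spec.map θ ≫ jZ)) := by
  haveI : IsIso (jZ.stalkMap (Spec.map θ (IsLocalRing.closedPoint S))) := inferInstance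
  let z := (Spec B).presheaf.germ ⊤ (Spec.map θ (IsLocalRing.closedPoint S)) trivial ((Scheme.ΓSpecIso B).inv b)
  refine ⟨inv (jZ.stalkMap (Spec.map θ (IsLocalRing.closedPoint S))) z, ?_⟩
  rw [Scheme.stalkClosedPointTo_comp]
  show Scheme.stalkClosedPointTo (Spec.map θ)
      ((inv (jZ.stalkMap (Spec.map θ (IsLocalRing.closedPoint S))) ≫ jZ.stalkMap _) z) = _
  rw [IsIso.inv_hom_id]
  show ((Scheme.ΓSpecIso B).inv ≫ (Spec B).presheaf.germ ⊤ _ trivial ≫ Scheme.stalkClosedPointTo (Spec.map θ)) b = _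
  rw [Scheme.germ_stalkClosedPointTo_Spec, Iso.inv_hom_id_assoc]

variable {X Y : Scheme.{u}} [IsIntegral X] [IsIntegral Y]

/-- A rational map to a proper variety is defined at a divisor, with image of codimension at most one,
on a birational model. -/
theorem exists_model_at_divisor (p : X ⟶ Spec (CommRingCat.of k)) [LocallyOfFiniteType p]
    (q : Y ⟶ Spec (CommRingCat.of k)) [IsProper q] (hXn : Pi1.IsNormalScheme X)
    (ξ : X) (hξ : ringKrullDim (X.presheaf.stalk ξ) = 1)
    (f : X.PartialMap Y) (hf : f.hom ≫ q = f.domain.ι ≫ p) [IsDominant f.hom] :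
    ∃ (Y' : Scheme.{u}) (_ : IsIntegral Y') (q' : Y' ⟶ Spec (CommRingCat.of k)) (_ : IsProper q')
      (φ : Y' ⟶ Y) (_ : φ ≫ q = q')
      (P : Y'.PartialIso Y) (_ : P.iso.hom ≫ P.target.ι = P.source.ι ≫ φ)
      (g : X.PartialMap Y') (_ : g.hom ≫ q' = g.domain.ι ≫ p)
      (_ : (g.compHom φ).toRationalMap = f.toRationalMap) (hξg : ξ ∈ g.domain),
      ringKrullDim ↑(Y'.presheaf.stalk (g.hom ⟨ξ, hξg⟩)) ≤ 1 := by
  classical
  haveI : IsLocallyNoetherian X := LocallyOfFiniteType.isLocallyNoetherian p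
  haveI : IsLocallyNoetherian Y := LocallyOfFiniteType.isLocallyNoetherian q
  haveI : CompactSpace Y := QuasiCompact.compactSpace_of_compactSpace q
  haveI : IsNoetherian Y := {}
  set ηX := genericPoint X with hηX
  set ηY := genericPoint Y with hηY
  -- the map on function fields
  have hηf : ηX ∈ f.domain :=
    (genericPoint_specializes _).mem_open f.domain.2 f.dense_domain.nonempty.choose_spec
  haveI : Nonempty f.domain := ⟨⟨ηX, hηf⟩⟩
  haveI : IsIntegral (f.domain : Scheme.{u}) := isIntegral_of_isOpenImmersion f.domain.ι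
  let fK : Spec X.functionField ⟶ Y := f.fromSpecStalkOfMem hηf
  have hpt : fK (IsLocalRing.closedPoint _) = ηY := by
    show (f.domain.fromSpecStalkOfMem ηX hηf ≫ f.hom) _ = _
    rw [Scheme.Hom.comp_apply, hηY, ← map_genericPoint_of_isDominant f.hom]
    congr 1
    apply f.domain.ι.injective
    rw [← Scheme.Hom.comp_apply, Scheme.Opens.fromSpecStalkOfMem_ι, Scheme.fromSpecStalk_closedPoint,
      genericPoint_eq_of_isOpenImmersion]
  have hspec : fK (IsLocalRing.closedPoint _) ⤳ ηY := by rw [hpt]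
  let j0 : Y.functionField ⟶ X.functionField :=
    Y.presheaf.stalkSpecializes hspec ≫ Scheme.stalkClosedPointTo fK
  have hj0 : Spec.map j0 ≫ Y.fromSpecStalk ηY = fK := by
    rw [Spec.map_comp, Category.assoc, Scheme.SpecMap_stalkSpecializes_fromSpecStalk,
      Scheme.Spec_stalkClosedPointTo_fromSpecStalk]
  letI algL : Algebra k Y.functionField := (baseHom q ηY).hom.toAlgebra
  letI algK : Algebra k X.functionField := (baseHom p ηX).hom.toAlgebra
  have hj0k : baseHom q ηY ≫ j0 = baseHom p ηX := by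
    apply Spec.map_injective
    rw [Spec.map_comp, map_baseHom, map_baseHom, ← Category.assoc, hj0]
    show (f.domain.fromSpecStalkOfMem ηX hηf ≫ f.hom) ≫ q = _
    rw [Category.assoc, hf, Scheme.Opens.fromSpecStalkOfMem_ι_assoc]
  obtain ⟨j, hj⟩ : ∃ j : Y.functionField →ₐ[k] X.functionField, j.toRingHom = j0.hom := by
    have h : j0.hom.comp (algebraMap k Y.functionField) = algebraMap k X.functionField := by
      simp only [RingHom.algebraMap_toAlgebra]
      exact congrArg CommRingCat.Hom.hom hj0k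
    exact ⟨{ j0.hom with commutes' := fun c => RingHom.congr_fun h c }, rfl⟩
  -- the local ring at the divisor
  haveI : IsIntegrallyClosed (X.presheaf.stalk ξ) := (hXn ξ).2
  haveI : IsDiscreteValuationRing (X.presheaf.stalk ξ) := Curve17.isDiscreteValuationRing_of_dim_one _ hξ
  let W : ValuationSubring X.functionField :=
    ⟨(algebraMap (X.presheaf.stalk ξ) X.functionField).range,
      ValuationRing.isInteger_or_isInteger (X.presheaf.stalk ξ)⟩
  have hspecξ : ηX ⤳ ξ := genericPoint_specializes ξ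
  have halgξ : algebraMap (X.presheaf.stalk ξ) X.functionField = (X.presheaf.stalkSpecializes hspecξ).hom := rfl
  -- charts
  obtain ⟨_, ⟨U, hU, rfl⟩, hξU, -⟩ := X.isBasis_affineOpens.exists_subset_of_mem_open (Set.mem_univ ξ) isOpen_univ
  haveI : Nonempty U := ⟨⟨ξ, hξU⟩⟩
  let A : CommRingCat := Γ(X, U)
  let bA : CommRingCat.of k ⟶ A := Spec.preimage (hU.fromSpec ≫ p)
  letI algA : Algebra k A := bA.hom.toAlgebra
  haveI : Algebra.FiniteType k A := by
    have h1 : LocallyOfFiniteType (Spec.map bA) := by rw [Spec.map_preimage]; infer_instance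
    exact (HasRingHomProperty.Spec_iff (P := @LocallyOfFiniteType)).1 h1
  haveI : IsDomain A := inferInstanceAs (IsDomain Γ(X, U))
  letI : Algebra A (X.presheaf.stalk ξ) := (X.presheaf.germ U ξ hξU).hom.toAlgebra
  haveI : IsFractionRing A X.functionField := functionField_isFractionRing_of_isAffineOpen X U hU
  have hAO : ∀ a : A, algebraMap A X.functionField a =
      algebraMap (X.presheaf.stalk ξ) X.functionField (X.presheaf.germ U ξ hξU a) := fun a => by
    haveI := functionField_isScalarTower X U ⟨ξ, hξU⟩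
    rw [halgξ]
    exact (ConcreteCategory.congr_hom (X.presheaf.germ_stalkSpecializes hξU hspecξ) a).symm
  haveI : IsScalarTower k A X.functionField := IsScalarTower.of_algebraMap_eq fun c => by
    have e : bA ≫ X.presheaf.germ U ηX (hspecξ.mem_open U.2 hξU) = baseHom p ηX := by
      apply Spec.map_injective
      rw [Spec.map_comp, map_baseHom, Spec.map_preimage,
        ← hU.fromSpecStalk_eq_fromSpecStalk (hspecξ.mem_open U.2 hξU)]
      rfl
    exact (ConcreteCategory.congr_hom e c).symm
  let P : Ideal A := (hU.primeIdealOf ⟨ξ, hξU⟩).asIdeal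
  haveI : P.IsPrime := (hU.primeIdealOf ⟨ξ, hξU⟩).2
  haveI : IsLocalization.AtPrime (X.presheaf.stalk ξ) P := hU.isLocalization_stalk ⟨ξ, hξU⟩
  have hP : P.height = 1 := by
    have h := IsLocalization.AtPrime.ringKrullDim_eq_height P (X.presheaf.stalk ξ)
    rw [hξ] at h
    exact_mod_cast h.symm
  have hA : ∀ a : A, algebraMap A X.functionField a ∈ W := fun a => ⟨_, (hAO a).symm⟩
  have hP' : ∀ a : A, a ∉ P → W.valuation (algebraMap A X.functionField a) = 1 := fun a ha => by
    obtain ⟨t, ht⟩ := IsLocalization.map_units (M := P.primeCompl) (X.presheaf.stalk ξ) ⟨a, ha⟩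
    refine (W.valuation_eq_one_iff ⟨_, hA a⟩).1 (IsUnit.of_mul_eq_one
      ⟨algebraMap (X.presheaf.stalk ξ) X.functionField (↑t⁻¹ : X.presheaf.stalk ξ), _, rfl⟩ ?_)
    refine Subtype.ext ?_
    show algebraMap A X.functionField a * _ = (1 : X.functionField)
    rw [hAO, ← map_mul]
    conv_rhs => rw [← map_one (algebraMap (X.presheaf.stalk ξ) X.functionField)]
    congr 1
    have : (X.presheaf.germ U ξ hξU a : X.presheaf.stalk ξ) = t := ht.symm
    rw [this, Units.mul_inv]
  -- generators of the function field of the target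
  obtain ⟨_, ⟨UY, hUY, rfl⟩, hηUY, -⟩ := Y.isBasis_affineOpens.exists_subset_of_mem_open (Set.mem_univ ηY) isOpen_univ
  haveI : Nonempty UY := ⟨⟨ηY, hηUY⟩⟩
  let R : CommRingCat := Γ(Y, UY)
  let bR : CommRingCat.of k ⟶ R := Spec.preimage (hUY.fromSpec ≫ q)
  letI algR : Algebra k R := bR.hom.toAlgebra
  haveI : Algebra.FiniteType k R := by
    have h1 : LocallyOfFiniteType (Spec.map bR) := by rw [Spec.map_preimage]; infer_instance
    exact (HasRingHomProperty.Spec_iff (P := @LocallyOfFiniteType)).1 h1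
  haveI : IsFractionRing R Y.functionField := functionField_isFractionRing_of_isAffineOpen Y UY hUY
  haveI : IsScalarTower k R Y.functionField := IsScalarTower.of_algebraMap_eq fun c => by
    have e : bR ≫ Y.presheaf.germ UY ηY hηUY = baseHom q ηY := by
      apply Spec.map_injective
      rw [Spec.map_comp, map_baseHom, Spec.map_preimage, ← hUY.fromSpecStalk_eq_fromSpecStalk hηUY]
      rfl
    exact (ConcreteCategory.congr_hom e c).symm
  obtain ⟨y0, hy0⟩ := (inferInstance : Algebra.FiniteType k R).out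
  have hgen : IntermediateField.adjoin k (algebraMap R Y.functionField '' (y0 : Set R)) = ⊤ := by
    refine top_le_iff.1 fun z _ => ?_
    have hR : ∀ r : R, algebraMap R Y.functionField r ∈
        IntermediateField.adjoin k (algebraMap R Y.functionField '' (y0 : Set R)) := fun r => by
      have hr : r ∈ Algebra.adjoin k (y0 : Set R) := by rw [hy0]; trivial
      refine IntermediateField.algebra_adjoin_le_adjoin k _ ?_
      rw [← IsScalarTower.coe_toAlgHom' k R Y.functionField, ← AlgHom.map_adjoin]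
      exact ⟨r, hr, rfl⟩
    obtain ⟨a, b, -, e⟩ := IsFractionRing.div_surjective R z
    rw [← e]
    exact div_mem (hR a) (hR b)
  obtain ⟨B, hBft, hBV, hfrac⟩ :=
    exists_model_comap j P hP W hA hP' _ (y0.finite_toSet.image _) hgen
  haveI := hBft
  set V := W.comap j.toRingHom with hV
  -- the compactification of the model
  obtain ⟨Z, hZi, qZ, jZ, hqZ, hjo, hjZ⟩ := CurveNF.exists_proper_compactification k B
  let φB : Spec Y.functionField ⟶ Spec (CommRingCat.of B) := Spec.map (CommRingCat.ofHom B.val.toRingHom)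
  have hφB : (φB ≫ jZ) ≫ qZ = Y.fromSpecStalk ηY ≫ q := by
    rw [Category.assoc, hjZ, ← map_baseHom, ← Spec.map_comp]
    congr 1
  let gB : Y.PartialMap Z := Scheme.PartialMap.ofFromSpecStalk q qZ (φB ≫ jZ) hφB
  have hηB : ηY ∈ gB.domain := Scheme.PartialMap.mem_domain_ofFromSpecStalk q qZ (φB ≫ jZ) hφB
  obtain ⟨Y', hY'i, φ, r, hφp, hφiso, hrq, hres⟩ := NormBlow.exists_graph_extend q qZ gB.domain
    ⟨ηY, hηB⟩ gB.hom (Scheme.PartialMap.ofFromSpecStalk_comp q qZ (φB ≫ jZ) hφB)
  haveI := hY'i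
  haveI := hφp
  haveI := hφiso
  let genY' : Spec Y.functionField ⟶ Y' :=
    gB.domain.fromSpecStalkOfMem ηY hηB ≫ inv (φ ∣_ gB.domain) ≫ (φ ⁻¹ᵁ gB.domain).ι
  have hgenφ : genY' ≫ φ = Y.fromSpecStalk ηY := by
    simp only [genY', Category.assoc]
    rw [← morphismRestrict_ι, IsIso.inv_hom_id_assoc, Scheme.Opens.fromSpecStalkOfMem_ι]
  have hgenr : genY' ≫ r = φB ≫ jZ := by
    simp only [genY', Category.assoc]
    rw [hres, IsIso.inv_hom_id_assoc]
    exact Scheme.PartialMap.fromSpecStalkOfMem_ofFromSpecStalk q qZ (φB ≫ jZ) hφB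
  haveI : IsProper (φ ≫ q) := inferInstance
  -- the centre of the valuation
  have hVk : ∀ c : k, algebraMap k Y.functionField c ∈ V := fun c => hBV _ (B.algebraMap_mem c)
  let kV : CommRingCat.of k ⟶ CommRingCat.of V :=
    CommRingCat.ofHom ((algebraMap k Y.functionField).codRestrict V.toSubring hVk)
  let vL : CommRingCat.of V ⟶ Y.functionField := CommRingCat.ofHom V.subtype
  have hkVL : kV ≫ vL = baseHom q ηY := rfl
  let sq : ValuativeCommSq (φ ≫ q) :=
    { R := V
      K := Y.functionField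
      i₁ := genY'
      i₂ := Spec.map kV
      commSq := ⟨by
        rw [← Category.assoc, hgenφ]
        show _ = Spec.map vL ≫ Spec.map kV
        rw [← Spec.map_comp, hkVL, map_baseHom]⟩ }
  haveI : sq.commSq.HasLift := by
    have hu : UniversallyClosed (φ ≫ q) := inferInstance
    rw [UniversallyClosed.eq_valuativeCriterion] at hu
    exact hu.1 sq
  let τ : Spec (CommRingCat.of V) ⟶ Y' := sq.commSq.lift
  have hτK : Spec.map vL ≫ τ = genY' := sq.commSq.fac_left
  have hτk : τ ≫ φ ≫ q = Spec.map kV := sq.commSq.fac_right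
  -- the valuation ring at the divisor
  let eW : X.presheaf.stalk ξ ≃+* W :=
    RingEquiv.ofBijective (algebraMap (X.presheaf.stalk ξ) X.functionField).rangeRestrict
      ⟨fun a b hab => IsFractionRing.injective (X.presheaf.stalk ξ) X.functionField (congrArg Subtype.val hab),
        (algebraMap (X.presheaf.stalk ξ) X.functionField).rangeRestrict_surjective⟩
  let ρ0 : V →+* X.presheaf.stalk ξ :=
    eW.symm.toRingHom.comp ((j.toRingHom.comp V.subtype).codRestrict W.toSubring fun x => x.2)
  have hρ0 : ∀ x : V, algebraMap (X.presheaf.stalk ξ) X.functionField (ρ0 x) = j (x : Y.functionField) :=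
    fun x => congrArg Subtype.val (eW.apply_symm_apply
      (((j.toRingHom.comp V.subtype).codRestrict W.toSubring fun x => x.2) x))
  haveI : IsLocalHom ρ0 := ⟨fun x hx => by
    obtain ⟨t, ht⟩ := hx
    have hne : (x : Y.functionField) ≠ 0 := fun h0 => t.ne_zero (by
      apply IsFractionRing.injective (X.presheaf.stalk ξ) X.functionField
      rw [ht, hρ0, h0, map_zero, map_zero])
    have hinv : ((x : Y.functionField))⁻¹ ∈ V := by
      refine ⟨(↑t⁻¹ : X.presheaf.stalk ξ), ?_⟩
      show algebraMap _ _ _ = j _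
      rw [map_inv₀]
      refine eq_inv_of_mul_eq_one_left ?_
      rw [← hρ0, ← ht, ← map_mul, Units.inv_mul, map_one]
    exact IsUnit.of_mul_eq_one ⟨_, hinv⟩ (Subtype.ext (mul_inv_cancel₀ hne))⟩
  let ρ : CommRingCat.of V ⟶ X.presheaf.stalk ξ := CommRingCat.ofHom ρ0
  let ψ : Spec (X.presheaf.stalk ξ) ⟶ Y' := Spec.map ρ ≫ τ
  have hρk : kV ≫ ρ = baseHom p ξ := by
    ext c
    apply IsFractionRing.injective (X.presheaf.stalk ξ) X.functionField
    show algebraMap _ _ (ρ0 (kV c)) = _
    rw [hρ0]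
    show j (algebraMap k _ c) = (baseHom p ξ ≫ X.presheaf.stalkSpecializes hspecξ) c
    rw [j.commutes, baseHom_specializes]
    rfl
  have hψ : ψ ≫ φ ≫ q = X.fromSpecStalk ξ ≫ p := by
    rw [← map_baseHom, ← hρk, Spec.map_comp]
    show (Spec.map ρ ≫ τ) ≫ φ ≫ q = _
    rw [Category.assoc, hτk]
  let g : X.PartialMap Y' := Scheme.PartialMap.ofFromSpecStalk p (φ ≫ q) ψ hψ
  have hξg : ξ ∈ g.domain := Scheme.PartialMap.mem_domain_ofFromSpecStalk p (φ ≫ q) ψ hψ
  have hgψ : g.fromSpecStalkOfMem hξg = ψ := Scheme.PartialMap.fromSpecStalkOfMem_ofFromSpecStalk p (φ ≫ q) ψ hψ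
  have hηg : ηX ∈ g.domain := hspecξ.mem_open g.domain.2 hξg
  have heq : (g.compHom φ).toRationalMap = f.toRationalMap := by
    rw [Scheme.PartialMap.toRationalMap_eq_iff]
    refine Scheme.PartialMap.equiv_of_fromSpecStalkOfMem_eq _ _ (x := ηX) hηg hηf ?_
    have hsq : ρ ≫ X.presheaf.stalkSpecializes hspecξ = vL ≫ j0 := by
      ext x
      show algebraMap _ _ (ρ0 x) = j0.hom (x : Y.functionField)
      rw [hρ0, ← hj]
      rfl
    rw [Scheme.PartialMap.fromSpecStalkOfMem_compHom, fromSpecStalkOfMem_specializes g hspecξ hηg hξg, hgψ]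
    show (Spec.map (X.presheaf.stalkSpecializes hspecξ) ≫ Spec.map ρ ≫ τ) ≫ φ = fK
    rw [← Category.assoc (Spec.map _) (Spec.map ρ), ← Spec.map_comp, hsq, Spec.map_comp, Category.assoc,
      Category.assoc, reassoc_of% hτK, hgenφ, hj0]
  -- the dimension at the centre
  have hcentre : g.hom ⟨ξ, hξg⟩ = τ (IsLocalRing.closedPoint V) := by
    have h1 : g.fromSpecStalkOfMem hξg (IsLocalRing.closedPoint _) = g.hom ⟨ξ, hξg⟩ := by
      show (g.domain.fromSpecStalkOfMem ξ hξg ≫ g.hom) _ = _
      rw [Scheme.Hom.comp_apply]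
      congr 1
      apply g.domain.ι.injective
      rw [← Scheme.Hom.comp_apply, Scheme.Opens.fromSpecStalkOfMem_ι, Scheme.fromSpecStalk_closedPoint]
      rfl
    rw [← h1, hgψ]
    show (Spec.map ρ ≫ τ) _ = _
    rw [Scheme.Hom.comp_apply]
    congr 1
    exact Spec_closedPoint
  have hvL : IsDominant (Spec.map vL) := by
    refine ⟨?_⟩
    refine (PrimeSpectrum.denseRange_comap_iff_ker_le_nilRadical (f := vL.hom)).2 ?_
    rw [(RingHom.injective_iff_ker_eq_bot _).1 (Subtype.val_injective : Function.Injective vL.hom)]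
    exact bot_le
  have hgY' : genY' (IsLocalRing.closedPoint Y.functionField) = genericPoint Y' := by
    haveI : Nonempty ((φ ⁻¹ᵁ gB.domain : Y'.Opens)) := by
      obtain ⟨z⟩ : Nonempty (gB.domain : Scheme.{u}) := ⟨⟨ηY, hηB⟩⟩
      exact ⟨inv (φ ∣_ gB.domain) z⟩
    haveI : Nonempty gB.domain := ⟨⟨ηY, hηB⟩⟩
    haveI : IsIntegral (gB.domain : Scheme.{u}) := isIntegral_of_isOpenImmersion gB.domain.ι
    rw [← genericPoint_eq_of_isOpenImmersion (inv (φ ∣_ gB.domain) ≫ (φ ⁻¹ᵁ gB.domain).ι)]
    show (gB.domain.fromSpecStalkOfMem ηY hηB ≫ _) _ = _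
    rw [Scheme.Hom.comp_apply]
    congr 1
    apply gB.domain.ι.injective
    rw [← Scheme.Hom.comp_apply, Scheme.Opens.fromSpecStalkOfMem_ι, Scheme.fromSpecStalk_closedPoint,
      genericPoint_eq_of_isOpenImmersion]
  have hτgen : τ (genericPoint (Spec (CommRingCat.of V))) = genericPoint Y' := by
    haveI : IrreducibleSpace (Spec Y.functionField) := inferInstance
    rw [← map_genericPoint_of_isDominant (Spec.map vL), ← Scheme.Hom.comp_apply, hτK, ← hgY']
    congr 1
    exact Subsingleton.elim (α := PrimeSpectrum Y.functionField) _ _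
  have hdim : ringKrullDim (Y'.presheaf.stalk (τ (IsLocalRing.closedPoint V))) ≤ 1 := by
    let σ := Scheme.stalkClosedPointTo τ
    have hinj : Function.Injective σ :=
      ((ConcreteCategory.bijective_of_isIso (stalkClosedPointIso (CommRingCat.of V)).hom).1).comp
        (Curve17.stalkMap_injective τ hτgen _)
    let θ : CommRingCat.of B ⟶ CommRingCat.of V :=
      CommRingCat.ofHom (B.val.toRingHom.codRestrict V.toSubring fun x => hBV _ x.2)
    have hQ : τ ≫ r = Spec.map θ ≫ jZ := by
      haveI := hqZ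
      refine ext_of_isDominant_of_isSeparated qZ ?_ (Spec.map vL) ?_
      · rw [Category.assoc, hrq, hτk, Category.assoc, hjZ, ← Spec.map_comp]
        rfl
      · rw [reassoc_of% hτK, hgenr, ← Category.assoc, ← Spec.map_comp]
        rfl
    have hB : ∀ b : B, θ b ∈ Set.range σ := fun b => by
      have h := mem_range_stalkClosedPointTo θ jZ b
      rw [← hQ, Scheme.stalkClosedPointTo_comp] at h
      obtain ⟨t, ht⟩ := h
      exact ⟨_, ht⟩
    have hsurj : Function.Surjective σ := fun x => by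
      obtain ⟨a, b, ha, hb, hb1, e⟩ := hfrac (x : Y.functionField) x.2
      obtain ⟨s, hs⟩ := hB ⟨a, ha⟩
      obtain ⟨t, ht⟩ := hB ⟨b, hb⟩
      have hbu : IsUnit (θ ⟨b, hb⟩) := (V.valuation_eq_one_iff ⟨b, hBV b hb⟩).2 hb1
      obtain ⟨t', rfl⟩ : IsUnit t := isUnit_of_map_unit σ.hom t (by rw [ht]; exact hbu)
      refine ⟨s * ↑t'⁻¹, ?_⟩
      refine hbu.mul_left_injective ?_
      show σ.hom _ * θ ⟨b, hb⟩ = x * θ ⟨b, hb⟩
      rw [← ht, ← map_mul, Units.inv_mul_cancel_right, hs]
      rw [ht]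
      exact Subtype.ext e.symm
    let e := RingEquiv.ofBijective σ.hom ⟨hinj, hsurj⟩
    haveI : IsLocallyNoetherian Y' := LocallyOfFiniteType.isLocallyNoetherian (φ ≫ q)
    haveI : IsNoetherianRing V := isNoetherianRing_of_ringEquiv _ e
    haveI : IsPrincipalIdealRing V := inferInstance
    rw [ringKrullDim_eq_of_ringEquiv e]
    exact Ring.krullDimLE_iff.1 (inferInstance : Ring.KrullDimLE 1 V)
  refine ⟨Y', hY'i, φ ≫ q, inferInstance, φ, rfl,
    ⟨φ ⁻¹ᵁ gB.domain, (φ ⁻¹ᵁ gB.domain).2.dense ?_, gB.domain, gB.dense_domain, asIso (φ ∣_ gB.domain)⟩,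
    morphismRestrict_ι φ gB.domain, g, Scheme.PartialMap.ofFromSpecStalk_comp p (φ ≫ q) ψ hψ, heq, hξg, ?_⟩
  · obtain ⟨z⟩ : Nonempty (gB.domain : Scheme.{u}) := ⟨⟨ηY, hηB⟩⟩
    exact ⟨_, (inv (φ ∣_ gB.domain) z).2⟩
  · rw [hcentre]
    exact hdim

end Groth.Agent.DivModel15
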